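import Groth.Agent.H8.FieldDescent.Main
import Groth.Agent.Lib.AlgSpDecent.Jacobson
import Groth.Agent.Lib.AlgSpDecent.ResidualFactor
import Groth.Agent.Lib.AlgSpDecent.NoethQS
import Groth.Agent.Lib.AlgSpLimit.LimQf
import Groth.Agent.Lib.AlgSpVal.DvrMain
import Groth.Agent.Lib.AlgSpDecent.LqfFieldSp
import Groth.Agent.Lib.AlgSpFpqc.Affine
import Groth.Agent.Lib.AlgSpNormCover.Restrict
import Mathlib.AlgebraicGeometry.AlgClosed.Basic
import Mathlib.AlgebraicGeometry.QuasiAffine

/-! # Descent of representability from an algebraic closure with enough affine opens -/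

set_option autoImplicit false
set_option linter.style.haveILetI false
set_option backward.isDefEq.respectTransparency false
set_option backward.isDefEq.respectTransparency.types false

universe u

open CategoryTheory CategoryTheory.Limits AlgebraicGeometry Topology TopologicalSpace
open AlgSp (Sp yon RepWith IsAlgSpace Points IsQuasiCompactSp IsQuasiSeparatedSp IsQuasiAffineMor
  IsFpqcCover IsDecent IsLocNoethSp LocP EtaleLocally)
open Groth.Agent.Lib Groth.Agent.Lib.AlgSpace

namespace Groth.Agent.H8.ClosureDescent.Basic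

variable {k kbar : Type u} [Field k] [Field kbar] [Algebra k kbar]

local notation "B" => Spec (CommRingCat.of k)
local notation "bB" => (Over.mk (𝟙 (Spec (CommRingCat.of k))) : Over (Spec (CommRingCat.of k)))
local notation "EK" =>
  (Over.mk (Spec.map (CommRingCat.ofHom (algebraMap k kbar))) : Over (Spec (CommRingCat.of k)))

/-- The covering map of the base. -/
noncomputable def cov (k kbar : Type u) [Field k] [Field kbar] [Algebra k kbar] :
    (Over.mk (Spec.map (CommRingCat.ofHom (algebraMap k kbar))) : Over (Spec (CommRingCat.of k))) ⟶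
      Over.mk (𝟙 (Spec (CommRingCat.of k))) :=
  Over.homMk (Spec.map (CommRingCat.ofHom (algebraMap k kbar))) (Category.comp_id _)

theorem flat_cov : Flat (cov k kbar).left :=
  (HasRingHomProperty.Spec_iff (P := @Flat)).2 (RingHom.flat_algebraMap_iff.2 inferInstance)

theorem surjective_cov : Surjective (cov k kbar).left :=
  ⟨fun x => ⟨IsLocalRing.closedPoint kbar, Subsingleton.elim (α := ↥(Spec (CommRingCat.of k))) _ _⟩⟩

theorem isFpqcCover_cov :
    IsFpqcCover (fun _ : PUnit.{u + 1} => (yon B).obj EK) (fun _ => (yon B).map (cov k kbar)) := by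
  refine ⟨fun _ => AlgSpMor.LocP.locP_of_repWith SourceDescent.Scheme.flat
    ((AlgSp.repWith_yon_map_iff @Flat (cov k kbar)).2 flat_cov), fun Z hZ h => ?_⟩
  haveI := hZ
  haveI : IsAffine (bB).left := inferInstanceAs (IsAffine (Spec (CommRingCat.of k)))
  haveI : IsAffine (EK).left := inferInstanceAs (IsAffine (Spec (CommRingCat.of kbar)))
  obtain ⟨g, rfl⟩ := (yon B).map_surjective h
  refine ⟨1, fun _ => pullback g (cov k kbar), fun _ => pullback.fst g (cov k kbar),
    fun _ => ?_, fun _ => ?_, ?_,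
    fun _ => ⟨PUnit.unit, (yon B).map (pullback.snd g (cov k kbar)), by
      rw [← Functor.map_comp, ← Functor.map_comp, pullback.condition]⟩⟩
  all_goals have sqL := (IsPullback.of_hasPullback g (cov k kbar)).map (Over.forget B)
  · haveI : IsAffineHom (cov k kbar).left := isAffineHom_of_isAffine _
    haveI : IsAffineHom (pullback.fst g (cov k kbar)).left :=
      MorphismProperty.of_isPullback sqL.flip ‹_›
    exact isAffine_of_isAffineHom (pullback.fst g (cov k kbar)).left
  · exact MorphismProperty.of_isPullback (P := @Flat) sqL.flip flat_cov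
  · intro z
    haveI : Surjective (pullback.fst g (cov k kbar)).left :=
      MorphismProperty.of_isPullback (P := @Surjective) sqL.flip surjective_cov
    exact ⟨0, (pullback.fst g (cov k kbar)).left.surjective z⟩

variable {X : Sp (Spec (CommRingCat.of k))}

/-- A quasi-compact space over a field which becomes quasi-affine over an extension is a scheme. -/
theorem isRepresentable_of_quasiAffine (hX : IsAlgSpace X) {N : Over B} (hN : N.left.IsQuasiAffine)
    {p : X ⟶ (yon B).obj bB} {f : (yon B).obj N ⟶ X} {d : N ⟶ EK}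
    (sq : IsPullback f ((yon B).map d) p ((yon B).map (cov k kbar))) : X.obj.IsRepresentable := by
  haveI : IsAffine (EK).left := inferInstanceAs (IsAffine (Spec (CommRingCat.of kbar)))
  have hd : IsQuasiAffineMor ((yon B).map d) := AlgSpMor.QuasiAffineDescent.isQuasiAffineMor_iff.2
    ((AlgSp.repWith_yon_map_iff _ _).2 (AlgSpMor.QuasiAffineDescent.qaHom_of_isQuasiAffine d.left hN))
  have hp : IsQuasiAffineMor p :=
    (AlgSpFpqc.Classes.isLocalOnBase_congr
      (fun _ _ _ _ _ => AlgSpMor.QuasiAffineDescent.isQuasiAffineMor_iff)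
      (AlgSpFpqc.Affine.isLocalOnBase_repWith _ (fun _ _ _ h => h)))
      (fun _ : PUnit.{u + 1} => (yon B).obj EK) (fun _ => (yon B).map (cov k kbar))
      (IsAlgSpace.yon_obj bB) (fun _ => IsAlgSpace.yon_obj EK) isFpqcCover_cov p hX
      (fun _ => (yon B).obj N) (fun _ => (yon B).map d) (fun _ => f)
      (fun _ => IsAlgSpace.yon_obj N) (fun _ => sq) |>.2 fun _ => hd
  obtain ⟨W, i, g, sqW, -⟩ := hp (Z := bB) (inferInstanceAs (IsAffine (Spec (CommRingCat.of k)))) (𝟙 _)
  haveI : IsIso g := sqW.isIso_fst_of_isIso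
  exact AlgSpDecent.OpenScheme.isRepresentable_of_iso (asIso g)

set_option maxHeartbeats 1000000 in
/-- A closed point has a scheme neighbourhood. -/
theorem exists_scheme_nhd [IsAlgClosed kbar] [Algebra.IsIntegral k kbar] (hX : IsAlgSpace X)
    (hN : IsLocNoethSp X) (hqs : IsQuasiSeparatedSp X) {p : X ⟶ (yon B).obj bB}
    (hp : LocP @LocallyOfFiniteType p) {T : Over B} {π : (yon B).obj T ⟶ X} {q : T ⟶ EK}
    (sqb : IsPullback π ((yon B).map q) p ((yon B).map (cov k kbar)))
    (h3 : ∀ s : Finset ↥T.left,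
      (∀ t ∈ s, ∃ σ : Spec (CommRingCat.of kbar) ⟶ T.left,
        σ ≫ q.left = 𝟙 _ ∧ σ (IsLocalRing.closedPoint kbar) = t) →
      ∃ W : T.left.Opens, IsAffineOpen W ∧ ∀ t ∈ s, t ∈ W)
    (x : Points X) (hx : IsClosed ({x} : Set (Points X))) :
    ∃ (V : Sp B) (j : V ⟶ X), RepWith @IsOpenImmersion j ∧ V.obj.IsRepresentable ∧
      x ∈ Set.range (Points.map j) := by
  have hci : IsIntegralHom (cov k kbar).left :=
    IsIntegralHom.SpecMap_iff.2 (fun a => Algebra.IsIntegral.isIntegral (R := k) a)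
  have hπi : RepWith @IsIntegralHom π :=
    AlgSpace.repWith_baseChange sqb.flip ((AlgSp.repWith_yon_map_iff _ (cov k kbar)).2 hci)
  -- an affine chart
  obtain ⟨U, a₁, ha₁, has₁⟩ := hX.atlas
  obtain ⟨u₁, hu₁⟩ := AlgSpace.surjective_ofPt has₁ x
  obtain ⟨_, ⟨O, hO, rfl⟩, huO, -⟩ :=
    U.left.isBasis_affineOpens.exists_subset_of_mem_open (Set.mem_univ u₁) isOpen_univ
  change U.left.Opens at O
  let W₀ : Over B := Over.mk (O.ι ≫ U.hom)
  let a : (yon B).obj W₀ ⟶ X := (yon B).map (AlgSpDecent.Specialize.openIncl O) ≫ a₁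
  have ha : RepWith @Etale a := AlgSpDecent.Specialize.repWith_etale_openIncl_comp O ha₁
  let u : W₀.left := (⟨u₁, huO⟩ : O.toScheme)
  have hu : Points.ofPt a u = x :=
    (AlgSpace.ofPt_yon_map_comp (AlgSpDecent.Specialize.openIncl O) a₁
      (⟨u₁, huO⟩ : O.toScheme)).trans hu₁
  haveI : IsAffine W₀.left := hO
  obtain ⟨s₀, hs₀⟩ := (yon B).map_surjective (a ≫ p)
  haveI : MorphismProperty.ContainsIdentities (@Etale : MorphismProperty Scheme.{u}) :=
    ⟨fun _ => inferInstance⟩
  have hft : LocallyOfFiniteType s₀.left :=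
    hp a (𝟙 _) s₀ ha (AlgSp.repWith_id @Etale _) (by rw [Category.comp_id, hs₀])
  -- the base change of the chart
  let P := hπi.rep.pullback a
  let f₁ : P ⟶ T := hπi.rep.fst' a
  let f₂ : P ⟶ W₀ := hπi.rep.snd a
  have sqP : IsPullback ((yon B).map f₁) ((yon B).map f₂) π a := hπi.rep.isPullback' a
  have sq₀ := sqP.flip.paste_vert sqb
  rw [← Functor.map_comp, ← hs₀] at sq₀
  have sqL := (IsPullback.of_map (yon B) ((yon B).map_injective (by
    rw [Functor.map_comp, Functor.map_comp]; simpa using sq₀.w)) sq₀).map (Over.forget B)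
  let r : P.left ⟶ Spec (CommRingCat.of kbar) := (f₁ ≫ q).left
  haveI : LocallyOfFiniteType r :=
    MorphismProperty.of_isPullback (P := @LocallyOfFiniteType) sqL hft
  haveI : IsIntegralHom f₂.left := hπi.property_snd a
  haveI : IsAffine P.left := isAffine_of_isAffineHom f₂.left
  haveI : IsLocallyNoetherian P.left := LocallyOfFiniteType.isLocallyNoetherian r
  haveI : IsNoetherian P.left := ⟨⟩
  let R : Set P.left := f₂.left ⁻¹' (Points.ofPt a ⁻¹' {x})
  have hRc : IsClosed R := (hx.preimage (Points.continuous_ofPt a)).preimage f₂.left.continuous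
  have hRs : ∀ z ∈ R, ∀ z' ∈ R, z ⤳ z' → z = z' := fun z hz z' hz' h =>
    AlgSpLimit.eq_of_specializes_of_isIntegralHom f₂.left h
      (AlgSpDecent.ResidualFactor.eq_of_specializes hX hN ha (h.map f₂.left.continuous)
        ((Set.mem_singleton_iff.1 hz).trans (Set.mem_singleton_iff.1 hz').symm))
  have hRf : R.Finite := AlgSpLimit.finite_of_no_specializes hRc hRs
  classical
  obtain ⟨W, hW, hRW⟩ := h3 (hRf.toFinset.image f₁.left) (fun t ht => by
    obtain ⟨z, hz, rfl⟩ := Finset.mem_image.1 ht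
    rw [Set.Finite.mem_toFinset] at hz
    have hzc : z ∈ closedPoints P.left := by
      refine mem_closedPoints_iff.2 (closure_subset_iff_isClosed.1 fun y hy => ?_)
      have hyR : y ∈ R := hRc.closure_subset (closure_mono (Set.singleton_subset_iff.2 hz) hy)
      exact (hRs z hz y hyR (specializes_iff_mem_closure.2 hy)).symm
    let σ := (pointEquivClosedPoint r).symm ⟨z, hzc⟩
    refine ⟨σ.1 ≫ f₁.left, (Category.assoc _ _ _).trans σ.2, ?_⟩
    have h := congrArg Subtype.val ((pointEquivClosedPoint r).apply_symm_apply ⟨z, hzc⟩)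
    exact (Scheme.Hom.comp_apply σ.1 f₁.left _).trans (congrArg f₁.left h))
  -- the neighbourhood
  let WO : Over B := Over.mk (W.ι ≫ T.hom)
  let ω : (yon B).obj WO ⟶ (yon B).obj T := (yon B).map (AlgSpDecent.Specialize.openIncl W)
  have hω : RepWith @IsOpenImmersion ω :=
    (AlgSp.repWith_yon_map_iff _ _).2 (inferInstanceAs (IsOpenImmersion W.ι))
  let Z : Set (Points ((yon B).obj T)) := (Set.range (Points.map ω))ᶜ
  have hZ : IsClosed Z := (AlgSpace.isOpenEmbedding_map hω).isOpen_range.isClosed_compl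
  have hV₀ : IsOpen (Points.map π '' Z)ᶜ :=
    (AlgSpNormCover.isClosedMap_map hX hπi _ hZ).isOpen_compl
  have hxV₀ : x ∈ (Points.map π '' Z)ᶜ := by
    rintro ⟨t, ht, htx⟩
    obtain ⟨z, hz1, hz2⟩ := AlgSpace.exists_of_isPullback sqP t (Points.ofScheme W₀ u)
      (by rw [htx, ← Points.ofPt_eq_map_ofScheme, hu])
    have hz : Points.toScheme P z ∈ R := by
      show Points.ofPt a (f₂.left (Points.toScheme P z)) = x
      rw [← AlgSpace.ofPt_yon_map_comp f₂ a, Points.ofPt_eq_map_ofScheme, Points.ofScheme_toScheme,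
        Points.map_comp, hz2, ← Points.ofPt_eq_map_ofScheme, hu]
    have hm := hRW _ (Finset.mem_image_of_mem f₁.left ((Set.Finite.mem_toFinset hRf).2 hz))
    refine ht ⟨Points.ofScheme WO (⟨_, hm⟩ : W.toScheme), ?_⟩
    have e₁ := AlgSpace.ofPt_yon_map_comp f₁ (𝟙 _) (Points.toScheme P z)
    have e₂ := AlgSpace.ofPt_yon_map_comp (AlgSpDecent.Specialize.openIncl W) (𝟙 _)
      (⟨_, hm⟩ : W.toScheme)
    rw [Category.comp_id, Points.ofPt_eq_map_ofScheme] at e₁ e₂
    rw [Points.ofScheme_toScheme, hz1] at e₁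
    exact e₂.trans e₁.symm
  obtain ⟨V₁, j₁, hV₁, hj₁, hr₁⟩ := AlgSpace.exists_open_subspace hX hV₀
  obtain ⟨x₁, rfl⟩ := hr₁.ge hxV₀
  haveI : Mono j₁ := AlgSpace.mono_of_repWith (P := @IsOpenImmersion)
    (fun _ _ g (_ : IsOpenImmersion g) ↦ (inferInstance : Mono g)) hj₁
  have hqs₁ : IsQuasiSeparatedSp V₁ :=
    AlgSpMor.Perm.repWith_diag_of_mor @QuasiCompact j₁ (AlgSpace.repWith_of_isIso _ _) hqs
  obtain ⟨V, j₂, hV, hVc, -, hj₂, hx₁⟩ := FieldDescent.Main.exists_qc_nhd hV₁ hqs₁ x₁
  let j := j₂ ≫ j₁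
  have hj : RepWith @IsOpenImmersion j := AlgSpace.repWith_comp hj₂ hj₁
  refine ⟨V, j, hj, ?_, ?_⟩
  swap
  · obtain ⟨x₂, rfl⟩ := hx₁
    exact ⟨x₂, Points.map_comp _ _ _⟩
  have sqV : IsPullback (pullback.fst π j) (pullback.snd π j) π j := IsPullback.of_hasPullback _ _
  obtain ⟨l, hl⟩ := (AlgSpace.exists_lift_iff_range_subset hω (pullback.fst π j)).2 (by
    rintro _ ⟨z, rfl⟩
    by_contra hn
    refine (hr₁.le ⟨Points.map j₂ (Points.map (pullback.snd π j) z), rfl⟩ : _ ∈ _) ⟨_, hn, ?_⟩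
    rw [← Points.map_comp, ← Points.map_comp, ← Points.map_comp, sqV.w])
  haveI : Mono ω := AlgSpace.mono_of_repWith (P := @IsOpenImmersion)
    (fun _ _ g (_ : IsOpenImmersion g) ↦ (inferInstance : Mono g)) hω
  have hlo : RepWith @IsOpenImmersion l := by
    refine AlgSpace.repWith_baseChange (IsPullback.of_horiz_isIso_mono (f := pullback.fst π j)
      (fst := 𝟙 _) (g := ω) (snd := l) ⟨?_⟩) ?_
    · simp [hl]
    · exact AlgSpace.repWith_baseChange sqV.flip hj
  obtain ⟨N, w, e, he⟩ := AlgSpace.exists_iso_yon_of_representable hlo.rep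
    (ξ := 𝟙 ((yon B).obj WO)) (snd := l) (fst := 𝟙 _) (IsPullback.of_horiz_isIso ⟨by simp⟩)
  haveI : IsOpenImmersion w.left := (AlgSp.repWith_yon_map_iff @IsOpenImmersion w).1
    (he ▸ (AlgSpace.repWith_iso_comp_iff _ e.hom l).2 hlo)
  have sqN : IsPullback (e.hom ≫ pullback.snd π j) (e.hom ≫ pullback.fst π j ≫ (yon B).map q)
      (j ≫ p) ((yon B).map (cov k kbar)) :=
    (sqV.flip.paste_vert sqb).of_iso e.symm (Iso.refl _) (Iso.refl _) (Iso.refl _) (by simp)
      (by simp) (by simp) (by simp)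
  obtain ⟨d, hd⟩ := (yon B).map_surjective (e.hom ≫ pullback.fst π j ≫ (yon B).map q)
  rw [← hd] at sqN
  refine isRepresentable_of_quasiAffine hV ?_ sqN
  have hqcm : RepWith @QuasiCompact (e.hom ≫ pullback.snd π j) :=
    (AlgSpace.repWith_iso_comp_iff _ e.hom _).2 (AlgSpace.repWith_mono
      (AlgSpace.repWith_baseChange sqV hπi) fun _ _ g (_ : IsIntegralHom g) =>
        (inferInstance : QuasiCompact g))
  haveI : CompactSpace (Points V) := (AlgSpMor.QC.isQuasiCompactSp_iff hV).1 hVc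
  haveI : CompactSpace (Points ((yon B).obj N)) := AlgSpMor.QC.compactSpace_of_repWith hqcm hV
  haveI : CompactSpace ↥N.left := (Points.schemeHomeo N).symm.compactSpace
  haveI : IsAffine WO.left := hW
  exact Scheme.IsQuasiAffine.of_isImmersion w.left

/-- Descent of representability from an algebraic closure. -/
theorem isRepresentable [IsAlgClosed kbar] [Algebra.IsIntegral k kbar] (hX : IsAlgSpace X)
    (hdec : IsDecent X) {p : X ⟶ (yon B).obj bB}
    (hp : LocP @LocallyOfFiniteType p) {T : Over B} {π : (yon B).obj T ⟶ X} {q : T ⟶ EK}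
    (sqb : IsPullback π ((yon B).map q) p ((yon B).map (cov k kbar)))
    (h3 : ∀ s : Finset ↥T.left,
      (∀ t ∈ s, ∃ σ : Spec (CommRingCat.of kbar) ⟶ T.left,
        σ ≫ q.left = 𝟙 _ ∧ σ (IsLocalRing.closedPoint kbar) = t) →
      ∃ W : T.left.Opens, IsAffineOpen W ∧ ∀ t ∈ s, t ∈ W) :
    X.obj.IsRepresentable := by
  haveI : IsLocallyNoetherian (bB).left :=
    inferInstanceAs (IsLocallyNoetherian (Spec (CommRingCat.of k)))
  have hN : IsLocNoethSp X := AlgSpVal.isLocNoethSp_of_locP hX (IsAlgSpace.yon_obj bB) hp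
    ⟨bB, 𝟙 _, AlgSp.repWith_id @Etale _, AlgSp.repWith_id @Surjective _, inferInstance⟩
  have hqs := AlgSpDecent.NoethQS.isQuasiSeparatedSp hX hdec hN
  haveI : MorphismProperty.ContainsIdentities (@Etale : MorphismProperty Scheme.{u}) :=
    ⟨fun _ => inferInstance⟩
  have hJ : EtaleLocally (fun U => JacobsonSpace ↥U) X := by
    obtain ⟨U, a, ha, has⟩ := hX.atlas
    obtain ⟨s₀, hs₀⟩ := (yon B).map_surjective (a ≫ p)
    have : LocallyOfFiniteType s₀.left :=
      hp a (𝟙 _) s₀ ha (AlgSp.repWith_id @Etale _) (by rw [Category.comp_id, hs₀])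
    haveI : JacobsonSpace ↥(bB).left := inferInstanceAs (JacobsonSpace ↥(Spec (CommRingCat.of k)))
    exact ⟨U, a, ha, has, LocallyOfFiniteType.jacobsonSpace s₀.left⟩
  haveI := AlgSpDecent.Jacobson.jacobsonSpace_points hdec hJ
  choose V j hj hV hmem using exists_scheme_nhd hX hN hqs hp sqb h3
  obtain ⟨U, a, -, has⟩ := hX.atlas
  have hc : ∀ u : U.left, ∃ c : Points X, Points.ofPt a u ⤳ c ∧ IsClosed ({c} : Set (Points X)) := fun u => by
    obtain ⟨c, hc, hcc⟩ := nonempty_inter_closedPoints (Z := closure {Points.ofPt a u})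
      ⟨_, subset_closure rfl⟩ isClosed_closure.isLocallyClosed
    exact ⟨c, specializes_iff_mem_closure.2 hc, hcc⟩
  choose c hc hcc using hc
  refine FieldDescent.Main.isRepresentable_of_cover hX (ι := ↥U.left)
    (j := fun i => j (c i) (hcc i)) (fun i => hj _ _) (fun i => hV _ _) fun y => ?_
  obtain ⟨i, rfl⟩ := AlgSpace.surjective_ofPt has y
  exact ⟨i, (hc i).mem_open (AlgSpace.isOpenEmbedding_map (hj _ (hcc i))).isOpen_range
    (hmem _ (hcc i))⟩

end Groth.Agent.H8.ClosureDescent.Basic
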